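import Cfsg.Agent.J3Cert.KData
import Cfsg.Agent.J3Cert.Check

/-!
# Certificates for a subgroup of order 8160
-/

set_option autoImplicit false
set_option maxRecDepth 100000

namespace Cfsg.Agent.J3Cert

open Cfsg.Agent.CosetEnum

/-- The two generators through their tables. -/
def kLook : ℕ → ℕ → ℕ
  | 0 => look kGen0T0 kGen0T1 kGen0T2
  | _ => look kGen1T0 kGen1T1 kGen1T2

/-- The two generators. -/
def kGen : ℕ → List ℕ
  | 0 => kGen0
  | _ => kGen1

theorem kLook_ok : allRange (fun s => allRange (fun j => allRange (fun k =>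
    Nat.beq (kLook s (Nat.shiftLeft k (6 * j))) (app (kGen s) (Nat.shiftLeft k (6 * j)))) 0 64) 0 3) 0 2
      = true := by decide +kernel

theorem kTables_zero : Nat.land kGen0T0 262143 = 0 ∧ Nat.land kGen0T1 262143 = 0 ∧
    Nat.land kGen0T2 262143 = 0 ∧ Nat.land kGen1T0 262143 = 0 ∧ Nat.land kGen1T1 262143 = 0 ∧
    Nat.land kGen1T2 262143 = 0 := by decide +kernel

/-- An element of the subgroup. -/
noncomputable def kMat (i : ℕ) : List ℕ := unpack (kTab.get 162 i)

/-- The subgroup table is closed, connected, free of repetitions and of the two proper scalars. -/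
noncomputable def kCheck (i : ℕ) : Bool :=
  allRange (fun s => Nat.blt ((bif Nat.beq s 0 then kClo0 else kClo1).get 16 i) 8160 &&
      eqMat ((kMat i).map (kLook s)) (kMat ((bif Nat.beq s 0 then kClo0 else kClo1).get 16 i))) 0 2 &&
    (Nat.beq i 0 || (Nat.blt (Nat.shiftRight (kPar.get 20 i) 2) i &&
      Nat.blt (Nat.land (kPar.get 20 i) 3) 2 &&
      eqMat ((kMat (Nat.shiftRight (kPar.get 20 i) 2)).map (kLook (Nat.land (kPar.get 20 i) 3)))
        (kMat i))) &&
    Nat.blt (kPerm.get 16 i) 8160 &&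
    (Nat.beq i 0 || Nat.blt (kTab.get 162 (kPerm.get 16 (Nat.sub i 1))) (kTab.get 162 (kPerm.get 16 i))) &&
    Nat.blt (kTab.get 162 i) (Nat.pow 2 162) &&
    !(eqMat (kMat i) (oneMat96.map mulW)) && !(eqMat (kMat i) ((oneMat96.map mulW).map mulW))
where
  /-- The identity. -/
  oneMat96 : List ℕ := [1, 2, 4, 8, 16, 32, 64, 128, 256]

theorem k_ok : allBlocks kCheck 96 85 = true := by decide +kernel

theorem k_zero : eqMat (kMat 0) [1, 2, 4, 8, 16, 32, 64, 128, 256] = true := by decide +kernel

end Cfsg.Agent.J3Cert
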