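import Cfsg.Agent.J3Cert.KCheck
import Cfsg.Agent.J3Cert.Simple
import Cfsg.Prelude.Def_Sporadic

/-!
# A subgroup of order 8160 and the action of degree 6156
-/

set_option autoImplicit false
set_option maxRecDepth 100000

namespace Cfsg.Agent.J3Cert

open Cfsg.Spor Cfsg.Agent.CosetEnum
open scoped Matrix

variable {F : Type*} [Field F] [Fintype F] {ω : F}

/-- Application through tables agrees with the matrix. -/
theorem Four.vec_look (h : Four F ω) {a b c : ℕ} {A : List ℕ} (hA : A.length = 9)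
    (ha : Nat.land a 262143 = 0) (hb : Nat.land b 262143 = 0) (hc : Nat.land c 262143 = 0)
    (hok : ∀ j < 3, ∀ k < 64, look a b c (Nat.shiftLeft k (6 * j)) = app A (Nat.shiftLeft k (6 * j)))
    {v : ℕ} (hv : v < 262144) : vec ω (look a b c v) = mat ω A *ᵥ vec ω v := by
  conv_rhs => rw [← split_eq hv]
  rw [look_split _ _ _ v ha hb hc, h.vec_xor, h.vec_xor, h.vec_xor, h.vec_xor, Matrix.mulVec_add,
    Matrix.mulVec_add]
  have r0 := hok 0 (by omega) (Nat.land v 63) (Nat.lt_succ_of_le Nat.and_le_right)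
  have r1 := hok 1 (by omega) (Nat.land (Nat.shiftRight v 6) 63) (Nat.lt_succ_of_le Nat.and_le_right)
  have r2 := hok 2 (by omega) (Nat.land (Nat.shiftRight v 12) 63) (Nat.lt_succ_of_le Nat.and_le_right)
  rw [show Nat.shiftLeft (Nat.land v 63) (6 * 0) = Nat.land v 63 from rfl] at r0
  rw [r0, r1, r2, h.vec_app hA, h.vec_app hA, h.vec_app hA]

theorem mat_map_kLook (h : Four F ω) {s : ℕ} (hs : s < 2) (i : ℕ) :
    mat ω ((kMat i).map (kLook s)) = mat ω (kGen s) * mat ω (kMat i) := by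
  refine h.mat_map (unpack_length _) fun c hc => ?_
  have hok : ∀ j < 3, ∀ k < 64, kLook s (Nat.shiftLeft k (6 * j)) = app (kGen s) (Nat.shiftLeft k (6 * j)) :=
    fun j hj k hk => Nat.eq_of_beq_eq_true (allRange_spec (allRange_spec (allRange_spec kLook_ok s
      (Nat.zero_le _) (by omega)) j (Nat.zero_le _) (by omega)) k (Nat.zero_le _) (by omega))
  obtain ⟨a, b, d, e, f, g⟩ := kTables_zero
  interval_cases s
  · exact h.vec_look rfl a b d hok (unpack_bound hc)
  · exact h.vec_look rfl e f g hok (unpack_bound hc)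

theorem kWord_ok :
    eqMat (cpow (wordThree kWord0) kExp0) kGen0 = true ∧ eqMat (cpow (wordThree kWord1) kExp1) kGen1 = true ∧
    (∀ k ∈ kWord0, k < 3) ∧ ∀ k ∈ kWord1, k < 3 := by decide +kernel

theorem kGen_coded (h : Four F ω) {s : ℕ} (hs : s < 2) : Coded ω (threeJ3 F ω) (kGen s) := by
  obtain ⟨e0, e1, w0, w1⟩ := kWord_ok
  interval_cases s
  · obtain ⟨hl, g, hg, hg'⟩ := wordThree_coded h w0
    rw [show kGen 0 = cpow (wordThree kWord0) kExp0 from (eq_of_eqMat e0).symm]
    exact ⟨(cpow_coded h hl hg' kExp0).1, g ^ kExp0, pow_mem hg _, (cpow_coded h hl hg' kExp0).2⟩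
  · obtain ⟨hl, g, hg, hg'⟩ := wordThree_coded h w1
    rw [show kGen 1 = cpow (wordThree kWord1) kExp1 from (eq_of_eqMat e1).symm]
    exact ⟨(cpow_coded h hl hg' kExp1).1, g ^ kExp1, pow_mem hg _, (cpow_coded h hl hg' kExp1).2⟩

theorem kCheck_of {i : ℕ} (hi : i < 8160) : kCheck i = true := allBlocks_spec k_ok (by norm_num) hi

variable (ω) in
/-- The two generators in the nine-dimensional group. -/
def kSet : Set (threeJ3 F ω) :=
  {g | ∃ s < 2, ((g : GL F9 F) : Matrix F9 F9 F) = mat ω (kGen s)}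

variable (ω) in
/-- The subgroup of order 8160. -/
def kSub : Subgroup (threeJ3 F ω) := Subgroup.closure (kSet ω)

theorem kMat_zero : kMat 0 = oneMat := eq_of_eqMat k_zero

theorem coded_kMat (h : Four F ω) : ∀ i < 8160, ∃ g ∈ kSub ω,
    ((g : GL F9 F) : Matrix F9 F9 F) = mat ω (kMat i) := by
  intro i
  induction i using Nat.strong_induction_on with
  | _ i ih =>
    intro hi
    rcases Nat.eq_zero_or_pos i with rfl | hpos
    · exact ⟨1, one_mem _, by rw [kMat_zero, mat_oneMat]; rfl⟩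
    · have hc := kCheck_of hi
      simp only [kCheck, Bool.and_eq_true, Bool.or_eq_true] at hc
      rcases hc.1.1.1.1.1.2 with h0 | ⟨⟨hp, hs⟩, he⟩
      · exact absurd (Nat.eq_of_beq_eq_true h0) (by omega)
      have hp' := Nat.le_of_ble_eq_true hp
      have hs' := Nat.le_of_ble_eq_true hs
      obtain ⟨a, ha, ha'⟩ := ih _ hp' (lt_trans hp' hi)
      obtain ⟨-, g, hg, hg'⟩ := kGen_coded h hs'
      refine ⟨⟨g, hg⟩ * a, mul_mem (Subgroup.subset_closure ⟨_, hs', hg'⟩) ha, ?_⟩
      rw [Subgroup.coe_mul, Units.val_mul, hg', ha', ← eq_of_eqMat he, mat_map_kLook h hs']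

theorem mem_kSub_iff (h : Four F ω) {g : threeJ3 F ω} :
    g ∈ kSub ω ↔ ∃ i < 8160, ((g : GL F9 F) : Matrix F9 F9 F) = mat ω (kMat i) := by
  refine ⟨fun hg => ?_, ?_⟩
  · refine closure_subset
      (X := {g : threeJ3 F ω | ∃ i < 8160, ((g : GL F9 F) : Matrix F9 F9 F) = mat ω (kMat i)}) ?_ ?_ hg
    · exact ⟨0, by norm_num, by rw [kMat_zero, mat_oneMat]; rfl⟩
    · rintro a ⟨s, hs, ha⟩ x ⟨i, hi, hx⟩
      have hc := kCheck_of hi
      simp only [kCheck, Bool.and_eq_true] at hc
      have hr := allRange_spec hc.1.1.1.1.1.1 s (Nat.zero_le _) (by omega)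
      rw [Bool.and_eq_true] at hr
      refine ⟨_, Nat.le_of_ble_eq_true hr.1, ?_⟩
      rw [Subgroup.coe_mul, Units.val_mul, ha, hx, ← eq_of_eqMat hr.2, mat_map_kLook h hs]
  · rintro ⟨i, hi, hg⟩
    obtain ⟨a, ha, ha'⟩ := coded_kMat h i hi
    rwa [Subtype.ext (Units.ext (hg.trans ha'.symm))]

theorem kTab_inj : Function.Injective fun i : Fin 8160 => kTab.get 162 i := by
  refine perm_inj (perm := kPerm.get 16) ?_ ?_
  · intro i hi
    have hc := kCheck_of hi
    simp only [kCheck, Bool.and_eq_true] at hc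
    exact Nat.le_of_ble_eq_true hc.1.1.1.1.2
  · intro i hi hi0
    have hc := kCheck_of hi
    simp only [kCheck, Bool.and_eq_true, Bool.or_eq_true] at hc
    rcases hc.1.1.1.2 with h0 | h0
    · exact absurd (Nat.eq_of_beq_eq_true h0) hi0
    · exact Nat.le_of_ble_eq_true h0

theorem kTab_lt {i : ℕ} (hi : i < 8160) : kTab.get 162 i < 2 ^ 162 := by
  have hc := kCheck_of hi
  simp only [kCheck, Bool.and_eq_true] at hc
  exact Nat.le_of_ble_eq_true hc.1.1.2

theorem card_kSub (h : Four F ω) : Nat.card (kSub ω) = 8160 := by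
  choose f hf hf' using fun i : Fin 8160 => coded_kMat h i i.2
  rw [← Nat.card_fin 8160]
  refine (Nat.card_eq_of_bijective (fun i => (⟨f i, hf i⟩ : kSub ω)) ⟨fun a b hab => ?_, ?_⟩).symm
  · have e : mat ω (kMat a) = mat ω (kMat b) := by
      rw [← hf', ← hf', show f a = f b from congrArg Subtype.val hab]
    exact kTab_inj (unpack_injective (kTab_lt a.2) (kTab_lt b.2)
      (h.mat_injective (unpack_length _) (unpack_length _) (fun _ hc => unpack_bound hc)
        (fun _ hc => unpack_bound hc) e))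
  · rintro ⟨g, hg⟩
    obtain ⟨i, hi, hgi⟩ := (mem_kSub_iff h).mp hg
    exact ⟨⟨i, hi⟩, Subtype.ext (Subtype.ext (Units.ext ((hf' ⟨i, hi⟩).trans hgi.symm)))⟩

theorem scalar_codes : kCheck.oneMat96 = oneMat ∧ ∀ c ∈ oneMat.map mulW ++ (oneMat.map mulW).map mulW, c < 262144 := by
  decide +kernel

theorem eqMat_self : ∀ A : List ℕ, eqMat A A = true
  | [] => rfl
  | a :: as => by simp [eqMat, eqMat_self as]

theorem kSub_inter_center (h : Four F ω) (hF : Fintype.card F = 4) :
    kSub ω ⊓ Subgroup.center (threeJ3 F ω) = ⊥ := by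
  rw [eq_bot_iff]
  rintro g ⟨hg, hc⟩
  obtain ⟨a, ha, hga⟩ := central_scalar h hF hc
  obtain ⟨i, hi, hgi⟩ := (mem_kSub_iff h).mp hg
  have hck := kCheck_of hi
  simp only [kCheck, Bool.and_eq_true, Bool.not_eq_true'] at hck
  obtain ⟨e96, hlt⟩ := scalar_codes
  rw [e96] at hck
  have hω : mat ω (oneMat.map mulW) = ω • (1 : Matrix F9 F9 F) := by
    rw [h.mat_map (M := ω • (1 : Matrix F9 F9 F)) rfl
      (fun c _ => by rw [h.vec_mulW]; simp [Matrix.smul_mulVec]), mat_oneMat, mul_one]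
  have hω2 : mat ω ((oneMat.map mulW).map mulW) = ω ^ 2 • (1 : Matrix F9 F9 F) := by
    rw [h.mat_map (M := ω • (1 : Matrix F9 F9 F)) rfl
      (fun c _ => by rw [h.vec_mulW]; simp [Matrix.smul_mulVec]), hω, smul_mul_smul_comm, mul_one, pow_two]
  have hroot : a = 1 ∨ a = ω ∨ a = ω ^ 2 := by
    have h0 : (a - 1) * ((a - ω) * (a - ω ^ 2)) = 0 := by
      linear_combination ha + (a - a ^ 2) * h.quad + (a - 1) * h.omega_cube
    rcases mul_eq_zero.mp h0 with e | e
    · exact Or.inl (sub_eq_zero.mp e)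
    · rcases mul_eq_zero.mp e with e | e
      · exact Or.inr (Or.inl (sub_eq_zero.mp e))
      · exact Or.inr (Or.inr (sub_eq_zero.mp e))
  have hbad : ∀ {B : List ℕ}, B.length = 9 → (∀ c ∈ B, c < 262144) → mat ω (kMat i) = mat ω B →
      eqMat (kMat i) B = true := fun hl hb e => by
    have e2 : kMat i = _ := h.mat_injective (unpack_length _) hl (fun _ hc => unpack_bound hc) hb e
    rw [e2]
    exact eqMat_self _
  rcases hroot with rfl | rfl | rfl
  · rw [Subgroup.mem_bot]
    exact Subtype.ext (Units.ext (by rw [hga, one_smul]; rfl))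
  · have := hbad rfl (fun c hc => hlt c (List.mem_append_left _ hc)) (hgi.symm.trans (hga.trans hω.symm))
    rw [this] at hck
    exact absurd hck.1.2 (by simp)
  · have := hbad rfl (fun c hc => hlt c (List.mem_append_right _ hc)) (hgi.symm.trans (hga.trans hω2.symm))
    rw [this] at hck
    exact absurd hck.2 (by simp)

theorem card_kImage (h : Four F ω) (hF : Fintype.card F = 4) :
    Nat.card ((kSub ω).map (QuotientGroup.mk' (Subgroup.center (threeJ3 F ω)))) = 8160 := by
  rw [← card_kSub h]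
  refine (Nat.card_eq_of_bijective
    (fun g : kSub ω => (⟨QuotientGroup.mk' (Subgroup.center (threeJ3 F ω)) g.1, Subgroup.mem_map_of_mem _ g.2⟩ :
      (kSub ω).map (QuotientGroup.mk' (Subgroup.center (threeJ3 F ω))))) ⟨fun a b hab => ?_, ?_⟩).symm
  · have e := congrArg Subtype.val hab
    simp only [QuotientGroup.mk'_apply, QuotientGroup.eq] at e
    have : (a : threeJ3 F ω)⁻¹ * b ∈ kSub ω ⊓ Subgroup.center (threeJ3 F ω) :=
      Subgroup.mem_inf.mpr ⟨(kSub ω).mul_mem ((kSub ω).inv_mem a.2) b.2, e⟩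
    rw [kSub_inter_center h hF, Subgroup.mem_bot, inv_mul_eq_one] at this
    exact Subtype.ext this
  · rintro ⟨q, hq⟩
    obtain ⟨g, hg, rfl⟩ := Subgroup.mem_map.mp hq
    exact ⟨⟨g, hg⟩, rfl⟩

/-- Transport of a coset action to `Fin n`. -/
theorem exists_coset_action {G : Type*} [Group G] [Finite G] [IsSimpleGroup G] (K : Subgroup G)
    {n k : ℕ} (hK : Nat.card K = k) (hn : K.index = n + 1) (hn0 : 0 < n) :
    ∃ H : Subgroup (Equiv.Perm (Fin (n + 1))), Nonempty (G ≃* H) ∧
      MulAction.IsPretransitive H (Fin (n + 1)) ∧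
      Nat.card (MulAction.stabilizer H (0 : Fin (n + 1))) = k := by
  classical
  let e0 : G ⧸ K ≃ Fin (n + 1) :=
    (Finite.equivFin (G ⧸ K)).trans (finCongr (by rw [← hn]; rfl))
  let e : G ⧸ K ≃ Fin (n + 1) := e0.trans (Equiv.swap (e0 (1 : G)) 0)
  have he : e (1 : G) = 0 := by simp [e]
  let φ : G →* Equiv.Perm (Fin (n + 1)) :=
    e.permCongrHom.toMonoidHom.comp (MulAction.toPermHom G (G ⧸ K))
  have hφ : ∀ g x, φ g x = e (g • e.symm x) := fun g x => rfl
  have hinj : Function.Injective φ := by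
    rw [← MonoidHom.ker_eq_bot_iff]
    refine (Subgroup.Normal.eq_bot_or_eq_top φ.normal_ker).resolve_right fun htop => ?_
    have hKtop : K = ⊤ := by
      rw [eq_top_iff]
      intro g _
      have h1 : φ g (0 : Fin (n + 1)) = 0 := by
        rw [show φ g = 1 from φ.mem_ker.mp (htop ▸ Subgroup.mem_top g)]; rfl
      rw [hφ, ← he, e.symm_apply_apply, e.apply_eq_iff_eq] at h1
      have h2 : ((g * 1 : G) : G ⧸ K) = ((1 : G) : G ⧸ K) := h1
      rw [mul_one, QuotientGroup.eq, mul_one] at h2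
      exact inv_mem_iff.mp h2
    rw [hKtop, Subgroup.index_top] at hn
    omega
  let eG : G ≃* φ.range := MonoidHom.ofInjective hinj
  refine ⟨φ.range, ⟨eG⟩, ⟨fun x y => ?_⟩, ?_⟩
  · obtain ⟨g, hg⟩ := MulAction.exists_smul_eq G (e.symm x) (e.symm y)
    exact ⟨eG g, by show φ g x = y; rw [hφ, hg, e.apply_symm_apply]⟩
  · rw [← hK]
    refine (Nat.card_congr (Equiv.subtypeEquiv eG.toEquiv fun g => ?_)).symm
    show g ∈ K ↔ φ g (0 : Fin (n + 1)) = 0
    rw [hφ, ← he, e.symm_apply_apply, e.apply_eq_iff_eq]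
    show g ∈ K ↔ ((g * 1 : G) : G ⧸ K) = ((1 : G) : G ⧸ K)
    rw [mul_one, QuotientGroup.eq, mul_one, inv_mem_iff]

theorem exists_degree_6156 : ∃ H : Subgroup (Equiv.Perm (Fin 6156)), Cfsg.IsJ3 H ∧
    MulAction.IsPretransitive H (Fin 6156) ∧
    Nat.card (MulAction.stabilizer H (0 : Fin 6156)) = 8160 := by
  classical
  haveI : Fintype (GaloisField 2 2) := Fintype.ofFinite _
  have hF : Fintype.card (GaloisField 2 2) = 4 := by
    rw [← Nat.card_eq_fintype_card, GaloisField.card 2 2 two_ne_zero]; norm_num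
  obtain ⟨ω, hω⟩ : ∃ ω : GaloisField 2 2, ω ^ 2 + ω + 1 = 0 := by
    obtain ⟨a, ha0, ha1⟩ : ∃ a : GaloisField 2 2, a ≠ 0 ∧ a ≠ 1 := by
      by_contra hne
      push Not at hne
      have hsub : (Finset.univ : Finset (GaloisField 2 2)) ⊆ {0, 1} := fun a _ => by
        by_cases h0 : a = 0
        · simp [h0]
        · simp [hne a h0]
      have := Finset.card_le_card hsub
      rw [Finset.card_univ, hF, Finset.card_insert_of_notMem (by simp), Finset.card_singleton] at this
      omega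
    refine ⟨a, ?_⟩
    have h3 := FiniteField.pow_card_sub_one_eq_one a ha0
    rw [hF] at h3
    exact mul_left_cancel₀ (sub_ne_zero.mpr ha1) (by rw [mul_zero]; linear_combination h3)
  have h := four_of_card hF hω
  haveI : Finite (J3 (GaloisField 2 2) ω) :=
    Nat.finite_of_card_ne_zero (by rw [card_J3 h hF]; norm_num)
  haveI := simple_J3 h hF
  set K := (kSub ω).map (QuotientGroup.mk' (Subgroup.center (threeJ3 (GaloisField 2 2) ω)))
  have hidx : K.index = 6155 + 1 := by
    have e := Subgroup.card_mul_index K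
    rw [card_kImage h hF, card_J3 h hF] at e
    omega
  obtain ⟨H, ⟨eH⟩, h1, h2⟩ := exists_coset_action K (card_kImage h hF) hidx (by norm_num)
  haveI : IsSimpleGroup H := eH.isSimpleGroup_congr.mp (simple_J3 h hF)
  exact ⟨H, ⟨inferInstance, (Nat.card_congr eH.toEquiv).symm.trans (card_J3 h hF)⟩, h1, h2⟩

end Cfsg.Agent.J3Cert
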