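import Cfsg.Agent.J3Cert.Order

/-!
# The orbits on lines: the first axis and the isotropic lines
-/

set_option autoImplicit false
set_option maxRecDepth 100000

namespace Cfsg.Agent.J3Cert

open Cfsg.Spor Cfsg.Agent.CosetEnum
open scoped Matrix

variable {F : Type*} [Field F] [Fintype F] {ω : F}

theorem vec_ne_zero (h : Four F ω) {v : ℕ} (hv : isNorm v = true) : vec ω v ≠ 0 := by
  intro h0
  simp only [isNorm, Bool.and_eq_true] at hv
  obtain ⟨k, -, hk, hk1, hk2, -⟩ := isNormFrom_spec hv.2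
  obtain ⟨z, rfl⟩ := exists_pos (show k < 9 by omega)
  have := congrFun h0 z
  simp [vec, hk1, hk2, bitF] at this

theorem orbit_ncard (h : Four F ω) :
    {L : Submodule F (F9 → F) | ∃ g ∈ threeJ3 F ω, L = F ∙ ((g : Matrix F9 F9 F) *ᵥ
      (Pi.single (0 : F9) (1 : F) : F9 → F))}.ncard = 23256 := by
  have hset : {L : Submodule F (F9 → F) | ∃ g ∈ threeJ3 F ω, L = F ∙ ((g : Matrix F9 F9 F) *ᵥ
      (Pi.single (0 : F9) (1 : F) : F9 → F))} =
      Set.range fun i : Fin 23256 => F ∙ vec ω (oTab.get 18 i) := by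
    ext L
    constructor
    · rintro ⟨g, hg, rfl⟩
      obtain ⟨i, hi, c, hc, e⟩ := o_closed h (threeJ3_eq h ▸ hg)
      refine ⟨⟨i, hi⟩, ?_⟩
      rw [← vec_one_eq (ω := ω), e]
      exact (Submodule.span_singleton_smul_eq (IsUnit.mk0 c hc) _).symm
    · rintro ⟨i, rfl⟩
      obtain ⟨g, hg, c, hc, e⟩ := (o_spec h).2.2 i i.2
      refine ⟨g, (threeJ3_eq h).symm ▸ hg, ?_⟩
      rw [← vec_one_eq (ω := ω), e]
      exact (Submodule.span_singleton_smul_eq (IsUnit.mk0 c hc) _).symm
  rw [hset, Set.ncard_range_of_injective, Nat.card_fin]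
  intro a b hab
  obtain ⟨c, hc⟩ := Submodule.span_singleton_eq_span_singleton.mp hab
  apply (o_spec h).2.1
  refine h.eq_of_isNorm ((o_spec h).1 a a.2) ((o_spec h).1 b b.2) (c := (c⁻¹ : Fˣ)) ?_
  rw [← hc, Units.smul_def, smul_smul, Units.inv_mul, one_smul]

theorem cube_of_ne (hF : Fintype.card F = 4) {a : F} (ha : a ≠ 0) : a ^ 3 = 1 := by
  have := FiniteField.pow_card_sub_one_eq_one a ha
  rwa [hF] at this

theorem sum_cube_cases (h : Four F ω) (hF : Fintype.card F = 4) {n : ℕ} (v : Fin n → F) :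
    ∑ i, v i ^ 3 = 0 ∨ ∑ i, v i ^ 3 = 1 := by
  induction n with
  | zero => simp
  | succ n ih =>
    rw [Fin.sum_univ_succ]
    by_cases ha : v 0 = 0 <;> rcases ih (fun i => v i.succ) with e | e <;> rw [e]
    · exact Or.inl (by simp [ha])
    · exact Or.inr (by simp [ha])
    · exact Or.inr (by rw [cube_of_ne hF ha, add_zero])
    · exact Or.inl (by rw [cube_of_ne hF ha]; linear_combination h.two)

/-- The number of isotropic vectors. -/
def isoCount : ℕ → ℕ
  | 0 => 1
  | n + 1 => isoCount n + 3 * (4 ^ n - isoCount n)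

theorem card_isotropic (h : Four F ω) (hF : Fintype.card F = 4) :
    ∀ n, Nat.card {v : Fin n → F // ∑ i, v i ^ 3 = 0} = isoCount n := by
  classical
  intro n
  induction n with
  | zero =>
    rw [isoCount, Nat.card_eq_one_iff_unique]
    exact ⟨⟨fun a b => Subtype.ext (funext fun i => i.elim0)⟩, ⟨⟨0, by simp⟩⟩⟩
  | succ n ih =>
    let e : {v : Fin (n + 1) → F // ∑ i, v i ^ 3 = 0} ≃
        Σ a : F, {v : Fin n → F // a ^ 3 + ∑ i, v i ^ 3 = 0} :=
      { toFun := fun v => ⟨v.1 0, fun i => v.1 i.succ, by rw [← Fin.sum_univ_succ (fun i => v.1 i ^ 3)]; exact v.2⟩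
        invFun := fun p => ⟨Fin.cons p.1 p.2.1, by rw [Fin.sum_univ_succ]; simpa using p.2.2⟩
        left_inv := fun v => Subtype.ext (Fin.cons_self_tail v.1)
        right_inv := fun p => by
          obtain ⟨a, v, hv⟩ := p
          rfl }
    have hcompl : Nat.card {v : Fin n → F // (1 : F) + ∑ i, v i ^ 3 = 0} = 4 ^ n - isoCount n := by
      have hiff : ∀ v : Fin n → F, (1 : F) + ∑ i, v i ^ 3 = 0 ↔ ¬ ∑ i, v i ^ 3 = 0 := fun v => by
        rcases sum_cube_cases h hF v with e | e <;> rw [e]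
        · simp
        · simp only [one_ne_zero, not_false_iff, iff_true]
          linear_combination h.two
      rw [Nat.card_congr (Equiv.subtypeEquivRight hiff), ← ih, Nat.card_eq_fintype_card,
        Nat.card_eq_fintype_card, Fintype.card_subtype_compl, Fintype.card_fun, hF, Fintype.card_fin]
    rw [isoCount, Nat.card_congr e, Nat.card_sigma, Fintype.sum_eq_add_sum_compl (0 : F),
      Finset.sum_congr rfl (g := fun _ => 4 ^ n - isoCount n)]
    · rw [Finset.sum_const, Finset.card_compl, hF, Finset.card_singleton, smul_eq_mul]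
      congr 1
      rw [← ih]
      exact Nat.card_congr (Equiv.subtypeEquivRight fun v => by simp)
    · intro a ha
      simp only [Finset.mem_compl, Finset.mem_singleton] at ha
      rw [← hcompl]
      refine Nat.card_congr (Equiv.subtypeEquivRight fun v => ?_)
      rw [cube_of_ne hF ha]

theorem iso_spec (h : Four F ω) : (∀ i < 43605, isNorm (isoTab.get 18 i) = true ∧ isEven (isoTab.get 18 i) = true) ∧
    Function.Injective (fun i : Fin 43605 => isoTab.get 18 i) ∧
    ∀ i < 43605, ∃ g ∈ threeJ3 F ω, Carries ω g (isoTab.get 18 0) (isoTab.get 18 i) := by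
  have hck : ∀ i < 43605, treeCheck isoTab isoPar isoPerm 43605 i = true ∧
      isEven (isoTab.get 18 i) = true := fun i hi => by
    have := allBlocks_spec iso_ok (n := 43605) (by norm_num) hi
    simpa only [isoCheck, Bool.and_eq_true] using this
  obtain ⟨h1, h2, h3⟩ := tree_spec h (fun i hi => (hck i hi).1) (threeJ3 F ω) (fun s hs => (coded_gen_three h hs).2)
  exact ⟨fun i hi => ⟨h1 i hi, (hck i hi).2⟩, h2, h3⟩

theorem sum_cube_of_isEven (h : Four F ω) (hF : Fintype.card F = 4) {v : ℕ} (hv : isEven v = true) :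
    ∑ z, vec ω v z ^ 3 = 0 := by
  have hterm : ∀ z, vec ω v z ^ 3 = bitF F (v.testBit (pos z) || v.testBit (9 + pos z)) := by
    intro z
    have hsum : (1 : F) + ω ≠ 0 := fun e => h.omega_ne_one (by linear_combination e - h.two)
    rw [vec]
    cases v.testBit (pos z) <;> cases v.testBit (9 + pos z) <;> simp only [bitF, Bool.or_false, Bool.or_true,
      Bool.false_or, if_true, Bool.false_eq_true, if_false, zero_add, add_zero, zero_mul, one_mul]
    · exact zero_pow (by norm_num)
    · exact h.omega_cube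
    · exact one_pow 3
    · exact cube_of_ne hF hsum
  simp only [hterm, Fintype.sum_prod_type]
  simp only [show ∀ f : ZMod 3 → F, ∑ x, f x = f 0 + f 1 + f 2 from Fin.sum_univ_three]
  have hb : ∀ k, k < 9 → bitN (Nat.lor (Nat.land v 511) (Nat.shiftRight v 9)) k =
      (v.testBit k || v.testBit (9 + k)).toNat := by
    intro k hk
    rw [bitN_eq]
    show (((v &&& 511) ||| (v >>> 9)).testBit k).toNat = _
    rw [Nat.testBit_or, Nat.testBit_and, Nat.testBit_shiftRight,
      show (511 : ℕ) = 2 ^ 9 - 1 from rfl, Nat.testBit_two_pow_sub_one]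
    simp [hk]
  simp only [isEven] at hv
  rw [hb 0 (by norm_num), hb 1 (by norm_num), hb 2 (by norm_num), hb 3 (by norm_num),
    hb 4 (by norm_num), hb 5 (by norm_num), hb 6 (by norm_num), hb 7 (by norm_num), hb 8 (by norm_num)] at hv
  have hx : ∀ a b : Bool, Nat.xor a.toNat b.toNat = (a ^^ b).toNat := by decide
  simp only [hx] at hv
  have hparity : ∀ a : Bool, Nat.beq a.toNat 0 = true → a = false := by decide
  have e := congrArg (bitF F) (hparity _ hv)
  simp only [h.bitF_bne] at e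
  simp only [show pos (0, 0) = 0 from rfl, show pos (0, 1) = 1 from rfl, show pos (0, 2) = 2 from rfl,
    show pos (1, 0) = 3 from rfl, show pos (1, 1) = 4 from rfl, show pos (1, 2) = 5 from rfl,
    show pos (2, 0) = 6 from rfl, show pos (2, 1) = 7 from rfl, show pos (2, 2) = 8 from rfl]
  exact (Eq.trans (by ring) e).trans (by simp [bitF])

theorem isotropic_eq (h : Four F ω) (hF : Fintype.card F = 4) {v : F9 → F} (hv : v ≠ 0)
    (hiso : ∑ z, v z ^ 3 = 0) :
    ∃ i < 43605, ∃ c : F, c ≠ 0 ∧ v = c • vec ω (isoTab.get 18 i) := by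
  classical
  obtain ⟨h1, h2, -⟩ := iso_spec h
  let T : Finset (F9 → F) := (Finset.univ.filter fun v : F9 → F => v ≠ 0 ∧ ∑ z, v z ^ 3 = 0)
  let S : Finset (F9 → F) := ((Finset.univ : Finset (Fin 43605)) ×ˢ ({0}ᶜ : Finset F)).image
    fun p => p.2 • vec ω (isoTab.get 18 p.1)
  have hS : S.card = 130815 := by
    rw [Finset.card_image_of_injOn, Finset.card_product, Finset.card_compl, hF, Finset.card_singleton,
      Finset.card_univ, Fintype.card_fin]
    rintro ⟨i, a⟩ hia ⟨j, b⟩ hjb e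
    simp only [Finset.coe_product, Set.mem_prod, Finset.mem_coe, Finset.mem_compl, Finset.mem_singleton] at hia hjb
    have hij : i = j := h2 (h.eq_of_isNorm (h1 i i.2).1 (h1 j j.2).1 (c := a⁻¹ * b)
      (by rw [← smul_smul]; simp only at e; rw [← e, smul_smul, inv_mul_cancel₀ hia.2, one_smul]))
    subst hij
    simp only at e
    have := smul_left_injective F (vec_ne_zero h (h1 i i.2).1) e
    rw [this]
  have hsub : S ⊆ T := by
    intro u hu
    simp only [S, Finset.mem_image, Finset.mem_product, Finset.mem_compl, Finset.mem_singleton] at hu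
    obtain ⟨⟨i, a⟩, ⟨-, ha⟩, rfl⟩ := hu
    simp only [T, Finset.mem_filter, Finset.mem_univ, true_and]
    refine ⟨smul_ne_zero ha (vec_ne_zero h (h1 i i.2).1), ?_⟩
    simp only [Pi.smul_apply, smul_eq_mul, mul_pow, ← Finset.mul_sum,
      sum_cube_of_isEven h hF (h1 i i.2).2, mul_zero]
  have hT : T.card + 1 = 130816 := by
    have e : F9 ≃ Fin 9 := Fintype.equivOfCardEq (by simp)
    have h9 : (Finset.univ.filter fun v : F9 → F => ∑ z, v z ^ 3 = 0).card = 130816 := by
      rw [← Fintype.card_subtype, ← Nat.card_eq_fintype_card,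
        show (130816 : ℕ) = isoCount 9 from rfl, ← card_isotropic h hF 9]
      refine Nat.card_congr (Equiv.subtypeEquiv (Equiv.arrowCongr e (Equiv.refl F)) fun v => ?_)
      rw [← Equiv.sum_comp e.symm (fun z => v z ^ 3)]
      rfl
    rw [← h9]
    have : T = (Finset.univ.filter fun v : F9 → F => ∑ z, v z ^ 3 = 0).erase 0 := by
      ext u
      simp [T, and_comm]
    rw [this, Finset.card_erase_add_one]
    simp
  have hST : S = T := Finset.eq_of_subset_of_card_le hsub (by omega)
  have hvT : v ∈ T := by simp [T, hv, hiso]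
  rw [← hST] at hvT
  simp only [S, Finset.mem_image, Finset.mem_product, Finset.mem_compl, Finset.mem_singleton] at hvT
  obtain ⟨⟨i, a⟩, ⟨-, ha⟩, e⟩ := hvT
  exact ⟨i, i.2, a, ha, e.symm⟩

theorem isotropic_transitive (h : Four F ω) (hF : Fintype.card F = 4) (v w : F9 → F) (hv : v ≠ 0)
    (hw : w ≠ 0) (hv' : ∑ z, v z ^ 3 = 0) (hw' : ∑ z, w z ^ 3 = 0) :
    ∃ g ∈ threeJ3 F ω, ∃ c : F, c ≠ 0 ∧ (g : Matrix F9 F9 F) *ᵥ v = c • w := by
  obtain ⟨i, hi, a, ha, rfl⟩ := isotropic_eq h hF hv hv'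
  obtain ⟨j, hj, b, hb, rfl⟩ := isotropic_eq h hF hw hw'
  obtain ⟨-, -, h3⟩ := iso_spec h
  obtain ⟨g, hg, hcg⟩ := h3 i hi
  obtain ⟨g', hg', hcg'⟩ := h3 j hj
  obtain ⟨c, hc, e⟩ := hcg'.comp hcg.symm
  refine ⟨g' * g⁻¹, mul_mem hg' (inv_mem hg), a * c * b⁻¹, mul_ne_zero (mul_ne_zero ha hc) (inv_ne_zero hb), ?_⟩
  rw [Matrix.mulVec_smul, e, smul_smul, smul_smul, mul_assoc (a * c), inv_mul_cancel₀ hb, mul_one]

end Cfsg.Agent.J3Cert
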