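import Cfsg.Agent.J3Cert.OutData
import Cfsg.Agent.J3Cert.Check
import Cfsg.Agent.J3Cert.Simple

/-!
# Kernel checks for the automorphisms of the Janko group
-/

set_option autoImplicit false
set_option maxRecDepth 100000

namespace Cfsg.Agent.J3Cert.Outer

open Cfsg.Agent.CosetEnum Cfsg.Agent.J3Cert

/-- Iterates of a map. -/
noncomputable def krylov (f : ℕ → ℕ) : ℕ → ℕ → List ℕ
  | 0, _ => []
  | n + 1, w => forceNat w fun w => w :: krylov f n (f w)

/-- A code outside the orbit. -/
noncomputable def outside (v : ℕ) : Bool :=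
  forceNat v fun v => Nat.blt v 262144 && Nat.beq (orbitBits.get 1 v) 0

/-- Equality up to scalars. -/
def peq (A B : List ℕ) : Bool :=
  eqMat A (B.map (scal 1)) || eqMat A (B.map (scal 2)) || eqMat A (B.map (scal 3))

/-- All entries are codes. -/
def allLt (A : List ℕ) : Bool := Nat.beq A.length 9 && A.all fun c => Nat.blt c 262144

/-- Inequality up to scalars. -/
def sep (A B : List ℕ) : Bool := allLt A && allLt B && !peq A B

/-- An iterate. -/
noncomputable def iter (f : ℕ → ℕ) : ℕ → ℕ → ℕ
  | 0, w => w
  | n + 1, w => forceNat w fun w => iter f n (f w)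

/-- The image of a sparse line is outside the orbit. -/
noncomputable def pairKill (f : ℕ → ℕ) (w : ℕ) (q : ℕ × ℕ × ℕ × ℕ) : Bool :=
  outside (Nat.xor w (scal q.2.1 (iter f q.1 w)))

/-- The sparse lines are in the orbit. -/
noncomputable def pairsOK (f : ℕ → ℕ) (ps : List (ℕ × ℕ × ℕ × ℕ)) : Bool :=
  ps.all fun q => Nat.blt 0 q.2.1 && Nat.blt q.2.1 4 && Nat.blt q.2.2.1 23256 &&
    Nat.blt 0 q.2.2.2 && Nat.blt q.2.2.2 4 &&
    Nat.beq (Nat.xor 1 (scal q.2.1 (iter f q.1 1))) (scal q.2.2.2 (oTab.get 18 q.2.2.1))

/-- The image of the first line determines an element intertwining two matrices. -/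
noncomputable def imageCheck (f : ℕ → ℕ) (Ki coef : List ℕ) (ps : List (ℕ × ℕ × ℕ × ℕ))
    (surv : List (List ℕ)) (i : ℕ) : Bool :=
  forceNat (oTab.get 18 i) fun w =>
    ps.any (pairKill f w) || coef.any (fun v => outside (app (krylov f 9 w) v)) ||
      surv.any fun S => peq (cmul (krylov f 9 w) Ki) S

/-- The element of order 19 through tables. -/
def fA : ℕ → ℕ := look tabAT0 tabAT1 tabAT2

/-- Its inverse through tables. -/
def fA18 : ℕ → ℕ := look tabA18T0 tabA18T1 tabA18T2

/-- The element of order 9 through tables. -/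
def fB : ℕ → ℕ := look tabBT0 tabBT1 tabBT2

/-- The tables describe the matrix. -/
noncomputable def tabOK (f : ℕ → ℕ) (A : List ℕ) (T : List ℕ) : Bool :=
  T.all (fun t => Nat.beq (Nat.land t 262143) 0) &&
    allRange (fun j => allRange (fun k =>
      Nat.beq (f (Nat.shiftLeft k (6 * j))) (app A (Nat.shiftLeft k (6 * j)))) 0 64) 0 3

/-- The product of a word in given matrices. -/
def evalW (L : List (List ℕ)) (l : List ℕ) : List ℕ :=
  l.foldr (fun k M => cmul (L.getD k []) M) oneMat

/-- The generators. -/
def abc : List (List ℕ) := [matA, matB, matC]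

/-- A product in the centraliser of `matB`. -/
def prodBC (p : ℕ × ℕ) : List ℕ := cmul (cpow matB p.1) (cpow matC p.2)

/-- The images of the generators. -/
def images (e : ℕ) (p : ℕ × ℕ) : List (List ℕ) := [cpow matA e, matB, prodBC p]

/-- Complex conjugation of a code. -/
def conjV (v : ℕ) : ℕ :=
  Nat.lor (Nat.land (Nat.xor v (Nat.shiftRight v 9)) 511) (Nat.land v 261632)

/-- The twisted conjugate of a coded matrix. -/
def twist (A : List ℕ) : List ℕ := cmul (cmul matP (A.map conjV)) matP

theorem pairs_ok : pairsOK fA pairA = true ∧ pairsOK fB pairB = true := by decide +kernel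

theorem orbit_ok : allBlocks (fun i => allRange (fun s =>
    Nat.beq (orbitBits.get 1 (scal s (oTab.get 18 i))) 1) 1 3) 136 171 = true := by decide +kernel

theorem tabs_ok : tabOK fA matA [tabAT0, tabAT1, tabAT2] = true ∧
    tabOK fA18 matA18 [tabA18T0, tabA18T1, tabA18T2] = true ∧
    tabOK fB matB [tabBT0, tabBT1, tabBT2] = true := by decide +kernel

theorem lengths_ok : matA.length = 9 ∧ matA18.length = 9 ∧ matB.length = 9 ∧ matC.length = 9 ∧
    matP.length = 9 ∧ krylovInvA.length = 9 ∧ krylovInvB.length = 9 := by decide +kernel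

theorem krylov_ok : eqMat (cmul (krylov fA 9 1) krylovInvA) oneMat = true ∧
    eqMat (cmul (krylov fB 9 1) krylovInvB) oneMat = true := by decide +kernel

theorem coef_ok :
    eqMat coefA ((List.range 13).map fun k => app krylovInvA (oTab.get 18 (k + 1))) = true ∧
    eqMat coefB ((List.range 13).map fun k => app krylovInvB (oTab.get 18 (k + 1))) = true := by
  decide +kernel

theorem words_ok : eqMat (wordThree wordA) matA = true ∧ eqMat (wordThree wordB) matB = true ∧
    eqMat (wordThree wordC) matC = true ∧
    (wordA ++ wordB ++ wordC ++ wordM ++ wordO0 ++ wordO1 ++ wordO2).all (fun k => Nat.blt k 3) = true := by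
  decide +kernel

theorem gens_ok : ∀ s < 3, ∀ l ∈ [[wordG0, wordG1, wordG2].getD s []],
    peq (genMat s) (evalW abc l) = true ∧ ∀ k ∈ l, k < 3 := by
  decide +kernel

theorem twist_ok : ∀ s < 3,
    eqMat (twist (genMat s)) (wordThree ([wordO0, wordO1, wordO2].getD s [])) = true := by
  decide +kernel

theorem perm_ok : eqMat (cmul matP matP) oneMat = true ∧ eqMat (matP.map conjV) matP = true := by
  decide +kernel

theorem relations_ok : peq (cpow matA 19) oneMat = true ∧ sep matA oneMat = true ∧
    peq (cmul matB matA) (cmul (cpow matA 4) matB) = true ∧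
    peq (cmul matC matB) (cmul matB matC) = true ∧ eqMat (cpow matA 18) matA18 = true ∧
    peq (cmul (twist matA) (wordThree wordM)) (cmul (wordThree wordM) matA18) = true := by
  decide +kernel

theorem surv_ok :
    survA.all (fun S => Nat.beq S.length 9 && (List.range 19).any fun n => peq S (cpow matA n)) = true ∧
    survB.all (fun S => Nat.beq S.length 9 && pairs.any fun p => peq S (prodBC p)) = true := by
  decide +kernel

theorem rels_ok : ∀ r ∈ rels, peq (evalW abc r.1) (evalW abc r.2) = true ∧
    (∀ k ∈ r.1, k < 3) ∧ ∀ k ∈ r.2, k < 3 := by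
  decide +kernel

theorem kill_ok : ∀ e ∈ [1, 18], ∀ p ∈ pairs, (e, p) = (1, 0, 1) ∨ (e, p) = (18, 2, 8) ∨
    rels.any (fun r => sep (evalW (images e p) r.1) (evalW (images e p) r.2)) = true := by
  decide +kernel

theorem image_AA : allBlocks (imageCheck fA krylovInvA coefA pairA survA) 136 171 = true := by
  decide +kernel

theorem image_AA18 : allBlocks (imageCheck fA18 krylovInvA coefA pairA []) 136 171 = true := by
  decide +kernel

theorem image_B1 : allBlocks (imageCheck (fun v => scal 1 (fB v)) krylovInvB coefB pairB survB) 136 171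
    = true := by
  decide +kernel

theorem image_B2 : allBlocks (imageCheck (fun v => scal 2 (fB v)) krylovInvB coefB pairB survB) 136 171
    = true := by
  decide +kernel

theorem image_B3 : allBlocks (imageCheck (fun v => scal 3 (fB v)) krylovInvB coefB pairB survB) 136 171
    = true := by
  decide +kernel

end Cfsg.Agent.J3Cert.Outer
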