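import Cfsg.Agent.J3Cert.OutQuot
import Cfsg.Agent.SporStruct.OuterRigid

/-!
# The outer automorphism group of the Janko group has order two
-/

set_option autoImplicit false
set_option maxRecDepth 100000

namespace Cfsg.Agent.J3Cert.Outer

open Cfsg Cfsg.Spor Cfsg.Agent.CosetEnum Cfsg.Agent.J3Cert Cfsg.Agent.SporStruct
open scoped Matrix

variable {F : Type*} [Field F] [Fintype F] {ω : F}

theorem semiconj_lift (h : Four F ω) (hF : Fintype.card F = 4) {x a a' : J3 F ω} {A A' : List ℕ}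
    (hA : Img ω a A) (hA' : Img ω a' A') (e : x * a = a' * x) :
    ∃ y : threeJ3 F ω, (y : J3 F ω) = x ∧ ∃ s, 0 < s ∧ s < 4 ∧
      ((y : GL F9 F) : Matrix F9 F9 F) * mat ω A =
        ω ^ (s - 1) • mat ω A' * ((y : GL F9 F) : Matrix F9 F9 F) := by
  obtain ⟨-, a, rfl, ea⟩ := hA
  obtain ⟨-, a', rfl, ea'⟩ := hA'
  obtain ⟨y, rfl⟩ := QuotientGroup.mk'_surjective _ x
  refine ⟨y, rfl, ?_⟩
  obtain ⟨c, hc, ec⟩ := smul_of_mk_eq (y := y * a) (g := a' * y) h hF e
  obtain ⟨s, hs0, hs, rfl⟩ := scalar_cases h hF (a := c) (fun h0 => by simp [h0] at hc)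
  refine ⟨s, hs0, hs, ?_⟩
  rw [Subgroup.coe_mul, Subgroup.coe_mul, Units.val_mul, Units.val_mul, ea, ea'] at ec
  rw [ec, Matrix.smul_mul]

theorem pow_nineteen (h : Four F ω) :
    mat ω matA ^ 19 = 1 ∧ mat ω matA18 ^ 19 = 1 := by
  obtain ⟨-, g, -, eg⟩ := (coded_words h).1
  have hl := lengths_ok.1
  have e19 : eqMat (cpow matA 19) oneMat = true := by
    rw [← eq_of_eqMat words_ok.1]
    exact (order19_ok 0 (by norm_num)).1
  have h19 : g ^ 19 = 1 := Units.ext (by
    rw [(cpow_coded h hl eg 19).2, eq_of_eqMat e19, mat_oneMat]; rfl)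
  refine ⟨?_, ?_⟩
  · rw [← eg, ← Units.val_pow_eq_pow_val, h19, Units.val_one]
  · rw [← eq_of_eqMat relations_ok.2.2.2.2.1, ← (cpow_coded h hl eg 18).2,
      ← Units.val_pow_eq_pow_val, ← pow_mul, mul_comm, pow_mul, h19, one_pow, Units.val_one]

theorem intertwine_nineteen (h : Four F ω) (hF : Fintype.card F = 4) {x a a' : J3 F ω} {A' : List ℕ}
    {f : ℕ → ℕ} {surv : List (List ℕ)} (hsurv : ∀ S ∈ surv, S.length = 9)
    (hA : Img ω a matA) (hA' : Img ω a' A') (hA19 : mat ω A' ^ 19 = 1)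
    (hf : Acts ω f (mat ω A')) (hchk : allBlocks (imageCheck f krylovInvA coefA pairA surv) 136 171 = true)
    (e : x * a = a' * x) :
    ∃ S ∈ surv, ∃ y : threeJ3 F ω, (y : J3 F ω) = x ∧
      ∃ c : F, ((y : GL F9 F) : Matrix F9 F9 F) = c • mat ω S := by
  obtain ⟨y, hy, s, hs0, hs, es⟩ := semiconj_lift h hF hA hA' e
  have hp := (show SemiconjBy ((y : GL F9 F) : Matrix F9 F9 F) (mat ω matA)
    (ω ^ (s - 1) • mat ω A') from es).pow_right 19
  rw [SemiconjBy, (pow_nineteen h).1, smul_pow, hA19, Matrix.mul_one, Matrix.smul_mul,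
    Matrix.one_mul] at hp
  have h1 : (ω ^ (s - 1)) ^ 19 = 1 := by
    by_contra hne
    have hz : ((y : GL F9 F) : Matrix F9 F9 F) = 0 := by
      have : ((ω ^ (s - 1)) ^ 19 - 1) • ((y : GL F9 F) : Matrix F9 F9 F) = 0 := by
        rw [sub_smul, one_smul, ← hp, sub_self]
      exact (smul_eq_zero.1 this).resolve_left (sub_ne_zero.2 hne)
    exact (y : GL F9 F).ne_zero hz
  have h2 : ω ^ (s - 1) = 1 := by
    have h3 : (ω ^ (s - 1)) ^ 3 = 1 := by rw [← pow_mul, mul_comm, pow_mul, h.omega_cube, one_pow]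
    rwa [show (19 : ℕ) = 3 * 6 + 1 from rfl, pow_succ, pow_mul, h3, one_pow, one_mul] at h1
  rw [h2, one_smul] at es
  obtain ⟨S, hS, c, -, ec⟩ := intertwine h hF (acts_look h lengths_ok.1 tabs_ok.1) hf pairs_ok.1 lengths_ok.2.2.2.2.2.1
    krylov_ok.1 coef_ok.1 hsurv hchk y.2 es
  exact ⟨S, hS, y, hy, c, ec⟩

theorem cent_a (h : Four F ω) (hF : Fintype.card F = 4) {a : J3 F ω} (hA : Img ω a matA)
    {x : J3 F ω} (e : x * a = a * x) : x ∈ Subgroup.zpowers a := by
  have hsl := surv_ok.1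
  simp only [List.all_eq_true, Bool.and_eq_true, List.any_eq_true] at hsl
  obtain ⟨S, hS, y, hy, c, ec⟩ := intertwine_nineteen h hF
    (fun S hS => Nat.eq_of_beq_eq_true (hsl S hS).1) hA hA (pow_nineteen h).1
    (acts_look h lengths_ok.1 tabs_ok.1) image_AA e
  obtain ⟨n, -, hn⟩ := (hsl S hS).2
  obtain ⟨l, z, hz, ez⟩ := hA.pow h n
  obtain ⟨d, -, ed⟩ := mat_peq h l hn
  refine ⟨(n : ℤ), ?_⟩
  show a ^ (n : ℤ) = x
  rw [zpow_natCast, ← hz, ← hy]
  exact (mk_eq_of_smul (c := c * d) (by rw [ec, ed, ← ez, smul_smul])).symm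

theorem no_invert (h : Four F ω) (hF : Fintype.card F = 4) {a : J3 F ω} (hA : Img ω a matA)
    (x : J3 F ω) : x * a ≠ a ^ 18 * x := by
  intro e
  obtain ⟨S, hS, -⟩ := intertwine_nineteen h hF (surv := []) (by simp) hA
    ((hA.pow h 18).congr relations_ok.2.2.2.2.1) (pow_nineteen h).2
    (acts_look h lengths_ok.2.1 tabs_ok.2.1) image_AA18 e
  exact List.not_mem_nil hS

theorem cent_b (h : Four F ω) (hF : Fintype.card F = 4) {b c : J3 F ω} (hB : Img ω b matB)
    (hC : Img ω c matC) {x : J3 F ω} (e : x * b = b * x) : ∃ p ∈ pairs, x = b ^ p.1 * c ^ p.2 := by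
  obtain ⟨y, hy, s, hs0, hs, es⟩ := semiconj_lift h hF hB hB e
  have hsl := surv_ok.2
  simp only [List.all_eq_true, Bool.and_eq_true, List.any_eq_true] at hsl
  have hl9 : ∀ S ∈ survB, S.length = 9 := fun S hS => Nat.eq_of_beq_eq_true (hsl S hS).1
  have hf := acts_scal h (acts_look h lengths_ok.2.2.1 tabs_ok.2.2) hs0 hs
  have hchk : allBlocks (imageCheck (fun v => scal s (look tabBT0 tabBT1 tabBT2 v)) krylovInvB coefB
      pairB survB) 136 171 = true := by
    interval_cases s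
    exacts [image_B1, image_B2, image_B3]
  obtain ⟨S, hS, d, -, ed⟩ := intertwine h hF (acts_look h lengths_ok.2.2.1 tabs_ok.2.2) hf
    pairs_ok.2 lengths_ok.2.2.2.2.2.2 krylov_ok.2 coef_ok.2 hl9 hchk y.2 es
  obtain ⟨p, hp, hp'⟩ := (hsl S hS).2
  refine ⟨p, hp, ?_⟩
  obtain ⟨l, z, hz, ez⟩ := (hB.pow h p.1).mul h (hC.pow h p.2)
  obtain ⟨d', -, ed'⟩ := mat_peq h l hp'
  rw [← hz, ← hy]
  exact mk_eq_of_smul (c := d * d') (by rw [ed, ed', ← ez, smul_smul])

theorem card_out (h : Four F ω) (hF : Fintype.card F = 4) : Nat.card (Out (J3 F ω)) = 2 := by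
  haveI : Finite (J3 F ω) := Nat.finite_of_card_ne_zero (by rw [card_J3 h hF]; norm_num)
  haveI : Fact (Nat.Prime 19) := ⟨by norm_num⟩
  obtain ⟨cA, cB, cC, cM, -⟩ := coded_words h
  obtain ⟨a, hA⟩ := exists_img cA
  obtain ⟨b, hB⟩ := exists_img cB
  obtain ⟨c, hC⟩ := exists_img cC
  obtain ⟨m, hM⟩ := exists_img cM
  obtain ⟨r1, r2, r3, r4, r5, r6⟩ := relations_ok
  have ha19 : a ^ 19 = 1 := (hA.pow h 19).eq_of_peq h img_one r1
  have hao : orderOf a = 19 := orderOf_eq_prime ha19 (hA.ne_of_sep h hF img_one r2)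
  have hba : b * a * b⁻¹ = a ^ 4 := by
    rw [mul_inv_eq_iff_eq_mul]
    exact (hB.mul h hA).eq_of_peq h ((hA.pow h 4).mul h hB) r3
  have hcb : c * b = b * c := (hC.mul h hB).eq_of_peq h (hB.mul h hC) r4
  have hinv : a⁻¹ = a ^ 18 := inv_eq_of_mul_eq_one_right (by rw [← pow_succ']; exact ha19)
  set xs : List (J3 F ω) := [a, b, c] with hxs
  have hx : ∀ k < xs.length, Img ω (xs.getD k 1) (abc.getD k []) := by
    intro k hk
    simp only [hxs, List.length_cons, List.length_nil] at hk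
    interval_cases k <;> assumption
  have hgen : Subgroup.closure ({a, b, c} : Set (J3 F ω)) = ⊤ := by
    set K := Subgroup.closure ({a, b, c} : Set (J3 F ω)) with hK
    rw [eq_top_iff]
    intro q _
    obtain ⟨⟨g, hg⟩, rfl⟩ := QuotientGroup.mk'_surjective _ q
    have hle : threeJ3 F ω ≤ (K.comap (QuotientGroup.mk' _)).map (threeJ3 F ω).subtype := by
      conv_lhs => rw [threeJ3_eq h]
      refine (Subgroup.closure_le _).mpr ?_
      rintro u ⟨s, hs, hu⟩
      have hum : u ∈ threeJ3 F ω := threeJ3_eq h ▸ Subgroup.subset_closure ⟨s, hs, hu⟩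
      obtain ⟨e, hl⟩ := gens_ok s hs _ (List.mem_singleton.2 rfl)
      refine ⟨⟨u, hum⟩, ?_, rfl⟩
      show ((⟨u, hum⟩ : threeJ3 F ω) : J3 F ω) ∈ K
      rw [Img.eq_of_peq h (x := ((⟨u, hum⟩ : threeJ3 F ω) : J3 F ω))
        ⟨genMat_length s, ⟨u, hum⟩, rfl, hu⟩ (img_word h hx fun k hk => by
          simpa [hxs] using hl k hk) e]
      refine K.list_prod_mem fun z hz => ?_
      obtain ⟨k, hk, rfl⟩ := List.mem_map.1 hz
      have hk3 := hl k hk
      refine Subgroup.subset_closure ?_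
      interval_cases k <;> simp [hxs]
    obtain ⟨z, hz, hzg⟩ := hle hg
    have : z = ⟨g, hg⟩ := Subtype.ext hzg
    exact this ▸ hz
  have hhom : ∀ φ ψ : MulAut (J3 F ω), φ a = ψ a → φ b = ψ b → φ c = ψ c → φ = ψ := by
    intro φ ψ e1 e2 e3
    apply MulEquiv.ext
    intro q
    refine DFunLike.congr_fun (MonoidHom.eq_of_eqOn_dense hgen (f := φ.toMonoidHom) (g := ψ.toMonoidHom) ?_) q
    intro z hz
    rcases hz with rfl | rfl | rfl <;> assumption
  have key : ∀ α : MulAut (J3 F ω), ∃ g : J3 F ω,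
      (MulAut.conj g * α = 1) ∨ ((MulAut.conj g * α) a = a ^ 18 ∧ (MulAut.conj g * α) b = b ∧
        (MulAut.conj g * α) c = b ^ 2 * c ^ 8) := by
    intro α
    obtain ⟨g, hβb, hβa⟩ := OuterRigid.normalise (p := 19) (r := 4) (u := 13)
      (by rw [card_J3 h hF]; norm_num) hao hba (fun y hy => cent_a h hF hA hy)
      (by unfold OuterRigid.Covers; decide +kernel) (by norm_num) (by norm_num) α
    refine ⟨g, ?_⟩
    set β := MulAut.conj g * α with hβ
    obtain ⟨e, he, hβe⟩ : ∃ e ∈ [1, 18], β a = a ^ e := by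
      rcases hβa with e' | e'
      · exact ⟨1, by simp, by rw [e', pow_one]⟩
      · exact ⟨18, by simp, by rw [e', hinv]⟩
    obtain ⟨p, hp, hβc⟩ := cent_b h hF hB hC (x := β c) (by
      calc β c * b = β (c * b) := by rw [map_mul, hβb]
        _ = b * β c := by rw [hcb, map_mul, hβb])
    rcases kill_ok e he p hp with hall | hall | hall
    · left
      simp only [Prod.mk.injEq] at hall
      obtain ⟨rfl, hp'⟩ := hall
      refine hhom _ _ (hβe.trans (pow_one a)) hβb (hβc.trans ?_)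
      rw [show p = (0, 1) from hp']
      simp
    · right
      simp only [Prod.mk.injEq] at hall
      obtain ⟨rfl, hp'⟩ := hall
      exact ⟨hβe, hβb, by rw [hβc, show p = (2, 8) from hp']⟩
    · exfalso
      simp only [List.any_eq_true] at hall
      obtain ⟨r, hr, hsep⟩ := hall
      obtain ⟨e1, l1, l2⟩ := rels_ok r hr
      set ys : List (J3 F ω) := [a ^ e, b, b ^ p.1 * c ^ p.2] with hys
      have hy : ∀ k < ys.length, Img ω (ys.getD k 1) ((images e p).getD k []) := by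
        intro k hk
        simp only [hys, List.length_cons, List.length_nil] at hk
        interval_cases k
        exacts [hA.pow h e, hB, (hB.pow h p.1).mul h (hC.pow h p.2)]
      have hsub : ∀ l : List ℕ, (∀ k ∈ l, k < 3) →
          β (l.map fun k => xs.getD k 1).prod = (l.map fun k => ys.getD k 1).prod := by
        intro l hl
        rw [map_list_prod, List.map_map]
        congr 1
        refine List.map_congr_left fun k hk => ?_
        have hk3 := hl k hk
        interval_cases k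
        exacts [hβe, hβb, hβc]
      refine (img_word h hy fun k hk => by simpa [hys] using l1 k hk).ne_of_sep h hF
        (img_word h hy fun k hk => by simpa [hys] using l2 k hk) hsep ?_
      rw [← hsub _ l1, ← hsub _ l2, (img_word h hx fun k hk => by simpa [hxs] using l1 k hk).eq_of_peq h
        (img_word h hx fun k hk => by simpa [hxs] using l2 k hk) e1]
  set o := outer h hF with ho
  have hnot : o ∉ Inn (J3 F ω) := by
    rintro ⟨g, hg⟩
    have e : o a * m = m * a ^ 18 :=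
      ((hA.outer h hF).mul h hM).eq_of_peq h (hM.mul h ((hA.pow h 18).congr r5)) r6
    have e' : g * a * g⁻¹ = o a := by rw [← hg]; rfl
    apply no_invert h hF hA (m⁻¹ * g)
    calc m⁻¹ * g * a = m⁻¹ * (g * a * g⁻¹ * m) * (m⁻¹ * g) := by group
      _ = a ^ 18 * (m⁻¹ * g) := by rw [e', e]; group
  refine OuterRigid.card_out_eq_two o hnot fun α => ?_
  obtain ⟨g, hg⟩ := key α
  rcases hg with hg | ⟨ga, gb, gc⟩
  · left
    rw [← inv_eq_iff_mul_eq_one.2 hg]
    exact (Inn _).inv_mem ⟨g, rfl⟩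
  · right
    obtain ⟨g', hg'⟩ := key o
    rcases hg' with hg' | ⟨oa, ob, oc⟩
    · refine absurd ?_ hnot
      rw [← inv_eq_iff_mul_eq_one.2 hg']
      exact (Inn _).inv_mem ⟨g', rfl⟩
    have e : α = (MulAut.conj g)⁻¹ * (MulAut.conj g' * o) := by
      rw [← hhom (MulAut.conj g * α) (MulAut.conj g' * o) (ga.trans oa.symm) (gb.trans ob.symm)
        (gc.trans oc.symm), inv_mul_cancel_left]
    rw [e, mul_assoc, mul_assoc, ho, outer_outer, mul_one]
    exact (Inn _).mul_mem ((Inn _).inv_mem ⟨g, rfl⟩) ⟨g', rfl⟩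

end Cfsg.Agent.J3Cert.Outer
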