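import Cfsg.Agent.J3Cert.OutSem

/-!
# Coded elements of the quotient and its twisted automorphism
-/

set_option autoImplicit false
set_option maxRecDepth 100000

namespace Cfsg.Agent.J3Cert.Outer

open Cfsg.Spor Cfsg.Agent.CosetEnum Cfsg.Agent.J3Cert
open scoped Matrix

variable {F : Type*} [Field F] [Fintype F] {ω : F}

variable (ω) in
/-- An element of the quotient is the image of a coded matrix. -/
def Img (x : J3 F ω) (A : List ℕ) : Prop :=
  A.length = 9 ∧ ∃ y : threeJ3 F ω, (y : J3 F ω) = x ∧ ((y : GL F9 F) : Matrix F9 F9 F) = mat ω A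

theorem exists_img {A : List ℕ} (h : Coded ω (threeJ3 F ω) A) : ∃ x, Img ω x A := by
  obtain ⟨hl, g, hg, e⟩ := h
  exact ⟨_, hl, ⟨g, hg⟩, rfl, e⟩

theorem img_one : Img ω (1 : J3 F ω) oneMat :=
  ⟨rfl, 1, QuotientGroup.mk_one _, mat_oneMat.symm⟩

theorem Img.mul (h : Four F ω) {x y : J3 F ω} {A B : List ℕ} (hA : Img ω x A) (hB : Img ω y B) :
    Img ω (x * y) (cmul A B) := by
  obtain ⟨lA, a, rfl, ea⟩ := hA
  obtain ⟨lB, b, rfl, eb⟩ := hB
  exact ⟨(cmul_length A B).trans lB, a * b, QuotientGroup.mk_mul _ a b, by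
    rw [Subgroup.coe_mul, Units.val_mul, ea, eb, h.mat_cmul lA lB]⟩

theorem Img.pow (h : Four F ω) {x : J3 F ω} {A : List ℕ} (hA : Img ω x A) :
    ∀ n, Img ω (x ^ n) (cpow A n)
  | 0 => by rw [pow_zero]; exact img_one
  | n + 1 => by rw [pow_succ']; exact hA.mul h (hA.pow h n)

theorem mk_eq_of_smul {y g : threeJ3 F ω} {c : F}
    (e : ((y : GL F9 F) : Matrix F9 F9 F) = c • ((g : GL F9 F) : Matrix F9 F9 F)) :
    (y : J3 F ω) = g := by
  have hg : g⁻¹ * y ∈ Subgroup.center (threeJ3 F ω) := by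
    rw [Subgroup.mem_center_iff]
    intro z
    apply Subtype.ext
    apply Units.ext
    have hs : (((g⁻¹ * y : threeJ3 F ω) : GL F9 F) : Matrix F9 F9 F) = c • 1 := by
      rw [Subgroup.coe_mul, Units.val_mul, e, Matrix.mul_smul, Subgroup.coe_inv, ← Units.val_mul,
        inv_mul_cancel, Units.val_one]
    show ((z : GL F9 F) : Matrix F9 F9 F) * (((g⁻¹ * y : threeJ3 F ω) : GL F9 F) : Matrix F9 F9 F) =
      (((g⁻¹ * y : threeJ3 F ω) : GL F9 F) : Matrix F9 F9 F) * ((z : GL F9 F) : Matrix F9 F9 F)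
    rw [hs, Matrix.mul_smul, Matrix.smul_mul, Matrix.mul_one, Matrix.one_mul]
  exact ((QuotientGroup.eq (a := g) (b := y)).2 hg).symm

theorem smul_of_mk_eq (h : Four F ω) (hF : Fintype.card F = 4) {y g : threeJ3 F ω}
    (e : (y : J3 F ω) = g) : ∃ c : F, c ^ 3 = 1 ∧
      ((y : GL F9 F) : Matrix F9 F9 F) = c • ((g : GL F9 F) : Matrix F9 F9 F) := by
  obtain ⟨c, hc, e'⟩ := central_scalar h hF (QuotientGroup.eq.1 e.symm)
  refine ⟨c, hc, ?_⟩
  have := congrArg (fun M => ((g : GL F9 F) : Matrix F9 F9 F) * M) e'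
  simp only [Subgroup.coe_mul, Units.val_mul, Subgroup.coe_inv, ← Matrix.mul_assoc] at this
  rw [← Units.val_mul, mul_inv_cancel, Units.val_one, Matrix.one_mul, Matrix.mul_smul,
    Matrix.mul_one] at this
  exact this

theorem Img.eq_of_peq (h : Four F ω) {x x' : J3 F ω} {A B : List ℕ} (hA : Img ω x A)
    (hB : Img ω x' B) (e : peq A B = true) : x = x' := by
  obtain ⟨-, a, rfl, ea⟩ := hA
  obtain ⟨lB, b, rfl, eb⟩ := hB
  obtain ⟨c, -, ec⟩ := mat_peq h lB e
  exact mk_eq_of_smul (c := c) (by rw [ea, eb, ec])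

theorem Img.ne_of_sep (h : Four F ω) (hF : Fintype.card F = 4) {x x' : J3 F ω} {A B : List ℕ}
    (hA : Img ω x A) (hB : Img ω x' B) (e : sep A B = true) : x ≠ x' := by
  obtain ⟨-, a, rfl, ea⟩ := hA
  obtain ⟨-, b, rfl, eb⟩ := hB
  intro he
  obtain ⟨c, hc, ec⟩ := smul_of_mk_eq h hF he
  rw [ea, eb] at ec
  exact mat_sep h hF e (fun h0 => by simp [h0] at hc) ec

theorem Img.congr {x : J3 F ω} {A B : List ℕ} (hA : Img ω x A) (e : eqMat A B = true) : Img ω x B :=
  eq_of_eqMat e ▸ hA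

theorem img_word (h : Four F ω) {xs : List (J3 F ω)} {L : List (List ℕ)}
    (hx : ∀ k < xs.length, Img ω (xs.getD k 1) (L.getD k [])) :
    ∀ {l : List ℕ}, (∀ k ∈ l, k < xs.length) →
      Img ω ((l.map fun k => xs.getD k 1).prod) (evalW L l)
  | [], _ => img_one
  | k :: l, hl => by
    rw [List.map_cons, List.prod_cons]
    exact (hx k (hl k List.mem_cons_self)).mul h (img_word h hx fun j hj => hl j (List.mem_cons_of_mem _ hj))

/-- The Frobenius map. -/
def frob (h : Four F ω) : F →+* F where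
  toFun x := x ^ 2
  map_one' := one_pow 2
  map_mul' x y := mul_pow x y 2
  map_zero' := zero_pow (by norm_num)
  map_add' x y := by linear_combination (x * y) * h.two

theorem vec_conjV (h : Four F ω) (v : ℕ) :
    vec ω (conjV v) = fun z => frob h (vec ω v z) := by
  funext z
  have hz := pos_lt z
  have h511 : ∀ j, Nat.testBit 511 j = decide (j < 9) := fun j =>
    Nat.testBit_two_pow_sub_one 9 j
  have hhi : ∀ j, Nat.testBit 261632 j = (decide (9 ≤ j) && decide (j - 9 < 9)) := fun j => by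
    rw [show (261632 : ℕ) = 511 <<< 9 from rfl, Nat.testBit_shiftLeft, h511]
  have h1 : (conjV v).testBit (pos z) = (v.testBit (pos z) ^^ v.testBit (9 + pos z)) := by
    show (((v ^^^ (v >>> 9)) &&& 511) ||| (v &&& 261632)).testBit (pos z) = _
    simp [Nat.testBit_or, Nat.testBit_and, Nat.testBit_shiftRight, Nat.testBit_xor, h511, hhi, hz,
      Nat.not_le.mpr hz]
  have h2 : (conjV v).testBit (9 + pos z) = v.testBit (9 + pos z) := by
    show (((v ^^^ (v >>> 9)) &&& 511) ||| (v &&& 261632)).testBit (9 + pos z) = _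
    simp [Nat.testBit_or, Nat.testBit_and, Nat.testBit_shiftRight, Nat.testBit_xor, h511, hhi, hz]
  show _ = (vec ω v z) ^ 2
  simp only [vec, h1, h2, h.bitF_bne]
  cases v.testBit (pos z) <;> cases v.testBit (9 + pos z) <;>
    simp only [bitF, if_true, Bool.false_eq_true, if_false, zero_add, add_zero, zero_mul, one_mul]
  · ring
  · linear_combination -h.omega_sq
  · ring
  · linear_combination -h.omega_sq - ω * h.two

theorem mat_conjV (h : Four F ω) (A : List ℕ) :
    mat ω (A.map conjV) = (mat ω A).map (frob h) := by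
  ext w z
  have h0 : conjV 0 = 0 := rfl
  show vec ω ((A.map conjV).getD (pos z) 0) w = frob h (vec ω (A.getD (pos z) 0) w)
  conv_lhs => rw [← h0, List.getD_map]
  rw [vec_conjV h]

theorem frob_frob (hF : Fintype.card F = 4) (h : Four F ω) (x : F) : frob h (frob h x) = x := by
  show (x ^ 2) ^ 2 = x
  rw [← pow_mul]
  have := FiniteField.pow_card x
  rwa [hF] at this

/-- Frobenius composed with the reflection of the index set. -/
noncomputable def twistHom (h : Four F ω) : GL F9 F →* GL F9 F :=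
  (MulAut.conj (⟨mat ω matP, mat ω matP,
    by rw [← h.mat_cmul lengths_ok.2.2.2.2.1 lengths_ok.2.2.2.2.1, eq_of_eqMat perm_ok.1, mat_oneMat],
    by rw [← h.mat_cmul lengths_ok.2.2.2.2.1 lengths_ok.2.2.2.2.1, eq_of_eqMat perm_ok.1, mat_oneMat]⟩ :
      GL F9 F)).toMonoidHom.comp (Units.map (frob h).mapMatrix.toMonoidHom)

theorem val_twistHom (h : Four F ω) (g : GL F9 F) : ((twistHom h g : GL F9 F) : Matrix F9 F9 F) =
    mat ω matP * (g : Matrix F9 F9 F).map (frob h) * mat ω matP := rfl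

theorem val_twist (h : Four F ω) {g : GL F9 F} {A : List ℕ} (hA : A.length = 9)
    (e : (g : Matrix F9 F9 F) = mat ω A) :
    ((twistHom h g : GL F9 F) : Matrix F9 F9 F) = mat ω (twist A) := by
  have hP := lengths_ok.2.2.2.2.1
  have hA' : (A.map conjV).length = 9 := (List.length_map _).trans hA
  rw [val_twistHom, e, ← mat_conjV, twist,
    h.mat_cmul ((cmul_length _ _).trans hA') hP, h.mat_cmul hP hA']

theorem twist_twist (h : Four F ω) (hF : Fintype.card F = 4) (g : GL F9 F) :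
    twistHom h (twistHom h g) = g := by
  apply Units.ext
  have hP := lengths_ok.2.2.2.2.1
  have hp2 : mat ω matP * mat ω matP = 1 := by
    rw [← h.mat_cmul hP hP, eq_of_eqMat perm_ok.1, mat_oneMat]
  have hpc : (mat ω matP).map (frob h) = mat ω matP := by
    rw [← mat_conjV, eq_of_eqMat perm_ok.2]
  rw [val_twistHom, val_twistHom, Matrix.map_mul, Matrix.map_mul, hpc, Matrix.map_map,
    show (frob h ∘ frob h : F → F) = id from funext (frob_frob hF h), Matrix.map_id]
  simp only [← Matrix.mul_assoc, hp2, Matrix.one_mul]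
  rw [Matrix.mul_assoc, hp2, Matrix.mul_one]

theorem coded_words (h : Four F ω) : Coded ω (threeJ3 F ω) matA ∧ Coded ω (threeJ3 F ω) matB ∧
    Coded ω (threeJ3 F ω) matC ∧ Coded ω (threeJ3 F ω) (wordThree wordM) ∧
    ∀ s < 3, Coded ω (threeJ3 F ω) (wordThree ([wordO0, wordO1, wordO2].getD s [])) := by
  obtain ⟨e1, e2, e3, hl⟩ := words_ok
  simp only [List.all_append, Bool.and_eq_true, List.all_eq_true] at hl
  obtain ⟨⟨⟨⟨⟨⟨l1, l2⟩, l3⟩, l4⟩, l5⟩, l6⟩, l7⟩ := hl
  have key : ∀ {l : List ℕ}, (∀ k ∈ l, Nat.blt k 3 = true) → Coded ω (threeJ3 F ω) (wordThree l) :=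
    fun hl => wordThree_coded h fun k hk => Nat.le_of_ble_eq_true (hl k hk)
  refine ⟨eq_of_eqMat e1 ▸ key l1, eq_of_eqMat e2 ▸ key l2, eq_of_eqMat e3 ▸ key l3, key l4,
    fun s hs => ?_⟩
  interval_cases s
  exacts [key l5, key l6, key l7]

theorem twist_mem (h : Four F ω) {g : GL F9 F} (hg : g ∈ threeJ3 F ω) :
    twistHom h g ∈ threeJ3 F ω := by
  have hle : threeJ3 F ω ≤ (threeJ3 F ω).comap (twistHom h) := by
    conv_lhs => rw [threeJ3_eq h]
    refine (Subgroup.closure_le _).mpr ?_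
    rintro a ⟨s, hs, ha⟩
    obtain ⟨-, y, hy, hy'⟩ := (coded_words h).2.2.2.2 s hs
    show twistHom h a ∈ threeJ3 F ω
    rwa [Units.ext ((val_twist h (genMat_length s) ha).trans
      ((congrArg (mat ω) (eq_of_eqMat (twist_ok s hs))).trans hy'.symm))]
  exact hle hg

/-- The twist on the triple cover. -/
noncomputable def twistEquiv (h : Four F ω) (hF : Fintype.card F = 4) :
    threeJ3 F ω ≃* threeJ3 F ω where
  toFun g := ⟨twistHom h g, twist_mem h g.2⟩
  invFun g := ⟨twistHom h g, twist_mem h g.2⟩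
  left_inv g := Subtype.ext (twist_twist h hF g)
  right_inv g := Subtype.ext (twist_twist h hF g)
  map_mul' a b := Subtype.ext (map_mul (twistHom h) _ _)

/-- The twist on the Janko group. -/
noncomputable def outer (h : Four F ω) (hF : Fintype.card F = 4) : MulAut (J3 F ω) :=
  QuotientGroup.congr _ _ (twistEquiv h hF) (by
    ext x
    rw [Subgroup.mem_map]
    constructor
    · rintro ⟨z, hz, rfl⟩
      rw [Subgroup.mem_center_iff]
      intro w
      obtain ⟨w', rfl⟩ := (twistEquiv h hF).surjective w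
      simp only [MulEquiv.coe_toMonoidHom, MonoidHom.coe_coe]
      rw [← map_mul, ← map_mul, Subgroup.mem_center_iff.1 hz w']
    · intro hx
      refine ⟨(twistEquiv h hF).symm x, ?_, (twistEquiv h hF).apply_symm_apply x⟩
      rw [Subgroup.mem_center_iff]
      intro w
      apply (twistEquiv h hF).injective
      rw [map_mul, map_mul, MulEquiv.apply_symm_apply, Subgroup.mem_center_iff.1 hx])

theorem outer_mk (h : Four F ω) (hF : Fintype.card F = 4) (y : threeJ3 F ω) :
    outer h hF (y : J3 F ω) = ((twistEquiv h hF y : threeJ3 F ω) : J3 F ω) := rfl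

theorem outer_outer (h : Four F ω) (hF : Fintype.card F = 4) : outer h hF * outer h hF = 1 := by
  apply MulEquiv.ext
  intro x
  obtain ⟨y, rfl⟩ := QuotientGroup.mk'_surjective _ x
  show outer h hF (outer h hF (y : J3 F ω)) = (y : J3 F ω)
  rw [outer_mk, outer_mk]
  exact congrArg _ (Subtype.ext (twist_twist h hF y))

theorem Img.outer (h : Four F ω) (hF : Fintype.card F = 4) {x : J3 F ω} {A : List ℕ}
    (hA : Img ω x A) : Img ω (outer h hF x) (twist A) := by
  obtain ⟨l, y, rfl, e⟩ := hA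
  refine ⟨(cmul_length _ _).trans lengths_ok.2.2.2.2.1, twistEquiv h hF y, (outer_mk h hF y).symm, ?_⟩
  exact val_twist h l e

end Cfsg.Agent.J3Cert.Outer
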