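import Cfsg.Agent.J3Cert.OutCheck

/-!
# Meaning of the intertwiner checks
-/

set_option autoImplicit false
set_option maxRecDepth 100000

namespace Cfsg.Agent.J3Cert.Outer

open Cfsg.Spor Cfsg.Agent.CosetEnum Cfsg.Agent.J3Cert
open scoped Matrix

variable {F : Type*} [Field F] [Fintype F] {ω : F}

theorem mulW_lt (v : ℕ) : mulW v < 262144 := by
  show ((v >>> 9) &&& 511) ||| (((v ^^^ (v >>> 9)) &&& 511) <<< 9) < 2 ^ 18
  refine Nat.or_lt_two_pow ?_ ?_
  · exact lt_of_le_of_lt Nat.and_le_right (by norm_num)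
  · rw [Nat.shiftLeft_eq]
    have : (v ^^^ (v >>> 9)) &&& 511 ≤ 511 := Nat.and_le_right
    omega

theorem scal_lt {s v : ℕ} (hv : v < 262144) : scal s v < 262144 := by
  rcases s with _ | _ | _ | s
  · exact Nat.zero_lt_succ _
  · exact hv
  · exact mulW_lt _
  · exact mulW_lt _

theorem look_lt (a b c v : ℕ) : look a b c v < 262144 := by
  show _ ^^^ (_ ^^^ _) < 2 ^ 18
  exact Nat.xor_lt_two_pow (land_mask_lt _) (Nat.xor_lt_two_pow (land_mask_lt _) (land_mask_lt _))

theorem vec_look (h : Four F ω) {A : List ℕ} (hA : A.length = 9) {a b c : ℕ}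
    (ht : tabOK (look a b c) A [a, b, c] = true) {v : ℕ} (hv : v < 262144) :
    vec ω (look a b c v) = mat ω A *ᵥ vec ω v := by
  simp only [tabOK, Bool.and_eq_true, List.all_eq_true] at ht
  obtain ⟨hz, hk'⟩ := ht
  have z1 := Nat.eq_of_beq_eq_true (hz a (by simp))
  have z2 := Nat.eq_of_beq_eq_true (hz b (by simp))
  have z3 := Nat.eq_of_beq_eq_true (hz c (by simp))
  have hk : ∀ j < 3, ∀ k < 64, vec ω (look a b c (Nat.shiftLeft k (6 * j))) =
      mat ω A *ᵥ vec ω (Nat.shiftLeft k (6 * j)) := by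
    intro j hj k hk
    rw [Nat.eq_of_beq_eq_true (allRange_spec (allRange_spec hk' j (Nat.zero_le _) (by omega)) k
      (Nat.zero_le _) (by omega)), h.vec_app hA]
  conv_rhs => rw [← split_eq hv]
  rw [look_split _ _ _ v z1 z2 z3, h.vec_xor, h.vec_xor, h.vec_xor, h.vec_xor, Matrix.mulVec_add,
    Matrix.mulVec_add]
  have r0 := hk 0 (by omega) (Nat.land v 63) (Nat.lt_succ_of_le Nat.and_le_right)
  have r1 := hk 1 (by omega) (Nat.land (Nat.shiftRight v 6) 63) (Nat.lt_succ_of_le Nat.and_le_right)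
  have r2 := hk 2 (by omega) (Nat.land (Nat.shiftRight v 12) 63) (Nat.lt_succ_of_le Nat.and_le_right)
  rw [show Nat.shiftLeft (Nat.land v 63) (6 * 0) = Nat.land v 63 from rfl] at r0
  rw [r0, r1, r2]

/-- A map on codes acting as a matrix. -/
def Acts (ω : F) (f : ℕ → ℕ) (M : Matrix F9 F9 F) : Prop :=
  ∀ v < 262144, f v < 262144 ∧ vec ω (f v) = M *ᵥ vec ω v

theorem acts_look (h : Four F ω) {A : List ℕ} (hA : A.length = 9) {a b c : ℕ}
    (ht : tabOK (look a b c) A [a, b, c] = true) : Acts ω (look a b c) (mat ω A) :=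
  fun v hv => ⟨look_lt a b c v, vec_look h hA ht hv⟩

theorem acts_scal (h : Four F ω) {f : ℕ → ℕ} {M : Matrix F9 F9 F} (hf : Acts ω f M) {s : ℕ}
    (hs0 : 0 < s) (hs : s < 4) : Acts ω (fun v => scal s (f v)) (ω ^ (s - 1) • M) := by
  intro v hv
  refine ⟨scal_lt (hf v hv).1, ?_⟩
  rw [h.vec_scal _ _ hs, if_neg (by omega), (hf v hv).2, Matrix.smul_mulVec]

theorem krylov_length (f : ℕ → ℕ) : ∀ n w, (krylov f n w).length = n
  | 0, _ => rfl
  | n + 1, w => by rw [krylov, forceNat_eq, List.length_cons, krylov_length f n]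

theorem krylov_rel {Y M M' : Matrix F9 F9 F} {c : F} (hY : Y * M = M' * Y) {f g : ℕ → ℕ}
    (hf : Acts ω f M) (hg : Acts ω g M') :
    ∀ n u w, u < 262144 → w < 262144 → Y *ᵥ vec ω u = c • vec ω w →
      ∀ k, Y *ᵥ vec ω ((krylov f n u).getD k 0) = c • vec ω ((krylov g n w).getD k 0) := by
  intro n
  induction n with
  | zero => intro u w _ _ _ k; simp [krylov, vec_zero]
  | succ n ih =>
    intro u w hu hw e k
    simp only [krylov, forceNat_eq]
    cases k with
    | zero => simpa using e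
    | succ k =>
      simp only [List.getD_cons_succ]
      refine ih _ _ (hf u hu).1 (hg w hw).1 ?_ k
      rw [(hf u hu).2, (hg w hw).2, Matrix.mulVec_mulVec, hY, ← Matrix.mulVec_mulVec, e,
        Matrix.mulVec_smul]

theorem scalar_cases (h : Four F ω) (hF : Fintype.card F = 4) {a : F} (ha : a ≠ 0) :
    ∃ s, 0 < s ∧ s < 4 ∧ a = ω ^ (s - 1) := by
  have h3 : a ^ 3 = 1 := by
    have := FiniteField.pow_card_sub_one_eq_one a ha
    rwa [hF] at this
  have h0 : (a - 1) * ((a - ω) * (a - ω ^ 2)) = 0 := by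
    linear_combination h3 + (a - a ^ 2) * h.quad + (a - 1) * h.omega_cube
  rcases mul_eq_zero.mp h0 with e | e
  · exact ⟨1, by norm_num, by norm_num, by simpa using sub_eq_zero.mp e⟩
  rcases mul_eq_zero.mp e with e | e
  · exact ⟨2, by norm_num, by norm_num, by simpa using sub_eq_zero.mp e⟩
  · exact ⟨3, by norm_num, by norm_num, sub_eq_zero.mp e⟩

theorem oTab_lt (h : Four F ω) {i : ℕ} (hi : i < 23256) : oTab.get 18 i < 262144 := by
  have := (o_spec h).1 i hi
  simp only [isNorm, Bool.and_eq_true] at this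
  exact Nat.le_of_ble_eq_true this.1

theorem iter_rel {Y M M' : Matrix F9 F9 F} {c : F} (hY : Y * M = M' * Y) {f g : ℕ → ℕ}
    (hf : Acts ω f M) (hg : Acts ω g M') :
    ∀ n u w, u < 262144 → w < 262144 → Y *ᵥ vec ω u = c • vec ω w →
      Y *ᵥ vec ω (iter f n u) = c • vec ω (iter g n w) := by
  intro n
  induction n with
  | zero => intro u w _ _ e; simpa [iter] using e
  | succ n ih =>
    intro u w hu hw e
    simp only [iter, forceNat_eq]
    refine ih _ _ (hf u hu).1 (hg w hw).1 ?_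
    rw [(hf u hu).2, (hg w hw).2, Matrix.mulVec_mulVec, hY, ← Matrix.mulVec_mulVec, e,
      Matrix.mulVec_smul]

theorem not_outside (h : Four F ω) (hF : Fintype.card F = 4) {v i : ℕ} (hi : i < 23256) {c : F}
    (hc : c ≠ 0) (e : vec ω v = c • vec ω (oTab.get 18 i)) : outside v = false := by
  by_contra ho
  simp only [Bool.not_eq_false, outside, forceNat_eq, Bool.and_eq_true] at ho
  obtain ⟨s, hs0, hs, rfl⟩ := scalar_cases h hF hc
  have hv : v = scal s (oTab.get 18 i) := by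
    refine h.vec_injective (Nat.le_of_ble_eq_true ho.1) (scal_lt (oTab_lt h hi)) ?_
    rw [h.vec_scal _ _ hs, if_neg (by omega), e]
  have hb := allBlocks_spec orbit_ok (n := 23256) (by norm_num) hi
  have := Nat.eq_of_beq_eq_true (allRange_spec hb s hs0 (by omega))
  rw [← hv, Nat.eq_of_beq_eq_true ho.2] at this
  exact absurd this (by norm_num)

theorem mat_scal (h : Four F ω) {A : List ℕ} (hA : A.length = 9) {s : ℕ} (hs0 : 0 < s) (hs : s < 4) :
    mat ω (A.map (scal s)) = ω ^ (s - 1) • mat ω A := by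
  rw [h.mat_map hA (f := scal s) (M := ω ^ (s - 1) • 1) (fun c _ => by
    rw [h.vec_scal _ _ hs, if_neg (by omega), Matrix.smul_mulVec, Matrix.one_mulVec]),
    Matrix.smul_mul, Matrix.one_mul]

theorem mat_peq (h : Four F ω) {A B : List ℕ} (hB : B.length = 9) (e : peq A B = true) :
    ∃ c : F, c ≠ 0 ∧ mat ω A = c • mat ω B := by
  simp only [peq, Bool.or_eq_true] at e
  rcases e with (e | e) | e
  · exact ⟨ω ^ 0, pow_ne_zero _ h.omega_ne_zero,
      (congrArg (mat ω) (eq_of_eqMat e)).trans (mat_scal h hB (by norm_num) (by norm_num))⟩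
  · exact ⟨ω ^ 1, pow_ne_zero _ h.omega_ne_zero,
      (congrArg (mat ω) (eq_of_eqMat e)).trans (mat_scal h hB (by norm_num) (by norm_num))⟩
  · exact ⟨ω ^ 2, pow_ne_zero _ h.omega_ne_zero,
      (congrArg (mat ω) (eq_of_eqMat e)).trans (mat_scal h hB (by norm_num) (by norm_num))⟩

theorem eqMat_refl : ∀ A : List ℕ, eqMat A A = true
  | [] => rfl
  | a :: A => by simp [eqMat, eqMat_refl A]

theorem mat_sep (h : Four F ω) (hF : Fintype.card F = 4) {A B : List ℕ} (e : sep A B = true)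
    {c : F} (hc : c ≠ 0) : mat ω A ≠ c • mat ω B := by
  simp only [sep, allLt, Bool.and_eq_true, List.all_eq_true, Bool.not_eq_true'] at e
  obtain ⟨⟨⟨hA, hA'⟩, hB, hB'⟩, e⟩ := e
  intro he
  obtain ⟨s, hs0, hs, rfl⟩ := scalar_cases h hF hc
  rw [← mat_scal h (Nat.eq_of_beq_eq_true hB) hs0 hs] at he
  have := h.mat_injective (Nat.eq_of_beq_eq_true hA) ((List.length_map _).trans (Nat.eq_of_beq_eq_true hB))
    (fun c hc => Nat.le_of_ble_eq_true (hA' c hc)) (fun c hc => by
      obtain ⟨d, hd, rfl⟩ := List.mem_map.1 hc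
      exact scal_lt (Nat.le_of_ble_eq_true (hB' d hd))) he
  subst this
  simp only [peq, Bool.or_eq_false_iff] at e
  interval_cases s <;> simp [eqMat_refl] at e

theorem mat_mulVec (h : Four F ω) {A B : List ℕ} (hA : A.length = 9) (hB : B.length = 9) (v : ℕ) :
    vec ω (app (cmul A B) v) = vec ω (app A (app B v)) := by
  rw [h.vec_app ((cmul_length A B).trans hB), h.vec_app hA, h.vec_app hB, h.mat_cmul hA hB,
    Matrix.mulVec_mulVec]

/-- The intertwiners of two matrices in the group are the listed ones, up to scalars. -/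
theorem intertwine (h : Four F ω) (hF : Fintype.card F = 4) {f g : ℕ → ℕ} {M M' : Matrix F9 F9 F}
    (hf : Acts ω f M) (hg : Acts ω g M') {Ki coef : List ℕ} {ps : List (ℕ × ℕ × ℕ × ℕ)}
    {surv : List (List ℕ)} (hps : pairsOK f ps = true) (hKi : Ki.length = 9) (hK : eqMat (cmul (krylov f 9 1) Ki) oneMat = true)
    (hcoef : eqMat coef ((List.range 13).map fun k => app Ki (oTab.get 18 (k + 1))) = true)
    (hsurv : ∀ S ∈ surv, S.length = 9)
    (hchk : allBlocks (imageCheck g Ki coef ps surv) 136 171 = true) {y : GL F9 F}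
    (hy : y ∈ threeJ3 F ω) (he : (y : Matrix F9 F9 F) * M = M' * (y : Matrix F9 F9 F)) :
    ∃ S ∈ surv, ∃ c : F, c ≠ 0 ∧ (y : Matrix F9 F9 F) = c • mat ω S := by
  have hyf : y ∈ fullGrp ω := threeJ3_eq h ▸ hy
  obtain ⟨i, hi, c, hc, ec⟩ := o_closed h hyf
  set L := krylov g 9 (oTab.get 18 i) with hL
  have hLl : L.length = 9 := krylov_length _ _ _
  have hKl : (krylov f 9 1).length = 9 := krylov_length _ _ _
  have hrel := krylov_rel he hf hg 9 1 (oTab.get 18 i) (by norm_num) (oTab_lt h hi) ec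
  have hYK : (y : Matrix F9 F9 F) * mat ω (krylov f 9 1) = c • mat ω L := by
    ext w z
    have := congrFun (hrel (pos z)) w
    rw [Matrix.mul_apply]
    exact this
  have hYm : (y : Matrix F9 F9 F) = c • mat ω (cmul L Ki) := by
    have := congrArg (fun X => X * mat ω Ki) hYK
    simp only [Matrix.mul_assoc, Matrix.smul_mul] at this
    rwa [← h.mat_cmul hKl hKi, ← h.mat_cmul hLl hKi, eq_of_eqMat hK, mat_oneMat, Matrix.mul_one]
      at this
  have hck := allBlocks_spec hchk (n := 23256) (by norm_num) hi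
  simp only [imageCheck, forceNat_eq, Bool.or_eq_true, List.any_eq_true] at hck
  rcases hck with (⟨⟨j, s, k, t⟩, hq, hv'⟩ | ⟨v, hv, hv'⟩) | ⟨S, hS, hS'⟩
  · exfalso
    simp only [pairsOK, List.all_eq_true, Bool.and_eq_true] at hps
    obtain ⟨⟨⟨⟨⟨hs0, hs⟩, hk⟩, ht0⟩, ht⟩, heq⟩ := hps _ hq
    have hk' : k < 23256 := Nat.le_of_ble_eq_true hk
    have hs' : s < 4 := Nat.le_of_ble_eq_true hs
    have ht' : t < 4 := Nat.le_of_ble_eq_true ht
    have ht1 : 0 < t := Nat.le_of_ble_eq_true ht0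
    have hit := iter_rel he hf hg j 1 (oTab.get 18 i) (by norm_num) (oTab_lt h hi) ec
    obtain ⟨x, hx, d, hd, ed⟩ := (o_spec h).2.2 k hk'
    obtain ⟨l, hl, d', hd', ed'⟩ := o_closed h (mul_mem hyf hx)
    have e1 : (y : Matrix F9 F9 F) *ᵥ vec ω (scal t (oTab.get 18 k)) =
        c • vec ω (Nat.xor (oTab.get 18 i) (scal s (iter g j (oTab.get 18 i)))) := by
      rw [← Nat.eq_of_beq_eq_true heq, h.vec_xor, h.vec_xor, Matrix.mulVec_add, ec, smul_add,
        h.vec_scal _ _ hs', h.vec_scal _ _ hs', Matrix.mulVec_smul, hit, smul_comm]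
    rw [h.vec_scal _ _ ht', if_neg (by omega),
      Matrix.mulVec_smul] at e1
    rw [Units.val_mul, ← Matrix.mulVec_mulVec, ed, Matrix.mulVec_smul] at ed'
    have hne : ω ^ (t - 1) ≠ 0 := pow_ne_zero _ h.omega_ne_zero
    have e2 : vec ω (Nat.xor (oTab.get 18 i) (scal s (iter g j (oTab.get 18 i)))) =
        (c⁻¹ * ω ^ (t - 1) * d⁻¹ * d') • vec ω (oTab.get 18 l) := by
      rw [← smul_smul, ← ed', smul_smul, mul_assoc, inv_mul_cancel₀ hd, mul_one, ← smul_smul, e1,
        smul_smul, inv_mul_cancel₀ hc, one_smul]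
    rw [pairKill, not_outside h hF hl (mul_ne_zero (mul_ne_zero (mul_ne_zero (inv_ne_zero hc) hne)
      (inv_ne_zero hd)) hd') e2] at hv'
    exact Bool.noConfusion hv'
  · exfalso
    rw [eq_of_eqMat hcoef] at hv
    obtain ⟨k, hk, rfl⟩ := List.mem_map.1 hv
    rw [List.mem_range] at hk
    have hk' : k + 1 < 23256 := by omega
    obtain ⟨x, hx, d, hd, ed⟩ := (o_spec h).2.2 (k + 1) hk'
    obtain ⟨l, hl, d', hd', ed'⟩ := o_closed h (mul_mem hyf hx)
    rw [Units.val_mul, ← Matrix.mulVec_mulVec, ed, Matrix.mulVec_smul, hYm, Matrix.smul_mulVec,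
      ← h.vec_app ((cmul_length _ _).trans hKi), mat_mulVec h hLl hKi, smul_smul] at ed'
    have e2 : vec ω (app L (app Ki (oTab.get 18 (k + 1)))) = ((d * c)⁻¹ * d') • vec ω (oTab.get 18 l) := by
      rw [← smul_smul, ← ed', smul_smul, inv_mul_cancel₀ (mul_ne_zero hd hc), one_smul]
    rw [not_outside h hF hl (mul_ne_zero (inv_ne_zero (mul_ne_zero hd hc)) hd') e2] at hv'
    exact Bool.noConfusion hv'
  · obtain ⟨a, ha, ea⟩ := mat_peq h (hsurv S hS) hS'
    exact ⟨S, hS, c * a, mul_ne_zero hc ha, by rw [hYm, ea, smul_smul]⟩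

end Cfsg.Agent.J3Cert.Outer
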